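import Cfsg.Agent.Lib.PG.Gen

set_option autoImplicit false
set_option maxRecDepth 100000
set_option Elab.async false
set_option exponentiation.threshold 100000

namespace Cfsg.Agent.Golay.L23
open Cfsg.Agent.PG

noncomputable def n0 : Net :=
 (.cons 16 0x5051
 (.cons 8 0x240029
 (.cons 4 0x40a0a07
 (.cons 2 0x20120
 (.cons 1 0x10510044
 (.cons 2 0x20002
 (.cons 4 0xa0008
 (.cons 8 0x240029
 (.cons 16 0x5051
 .nil)))))))))

noncomputable def n1 : Net :=
 (.cons 16 0x8cac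
 (.cons 8 0x10040
 (.cons 4 0x402030c
 (.cons 2 0x2100030
 (.cons 1 0x41141040
 (.cons 2 0x2221000
 (.cons 4 0x4000008
 (.cons 8 0x850021
 (.cons 16 0x8cf1
 .nil)))))))))

noncomputable def n2 : Net :=
 (.cons 16 0x424d
 (.cons 8 0x1800bd
 (.cons 4 0xa060002
 (.cons 2 0x10002110
 (.cons 1 0x10000045
 (.cons 2 0x20000020
 (.cons 4 0xa000008
 (.cons 8 0x180024
 (.cons 16 0x4271
 .nil)))))))))

noncomputable def A : List Net := [n0, n1, n2]

theorem hA : okA (2 ^ 5) A = true := by decide +kernel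

theorem hlen : A.length = 3 := rfl

def tr2 : List ℕ := [1, 0x104, 0x105, 0x10404, 0x10505, 0x1040404, 0x1050505, 0x104040404
  , 0x105050505, 0x10404040404, 0x10505050505]

def ce2 : List (List (ℕ × ℕ)) := [[(1, 1)],
  [(3, 1)],
  [(0, 1)],
  [(5, 1)],
  [(2, 1)],
  [(7, 1)],
  [(4, 1)],
  [(9, 1)],
  [(6, 1)],
  [(10, 1)],
  [(8, 1)]]

noncomputable def cl2_l : List Claim := plainClaims 2 tr2 ce2

def cj1 : List ℕ := []

def reps1 : List Rep := [⟨1, [(0x104, 0x104)],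
   [(1, 1, 1, 1)], 11⟩,
  ⟨0x102, [],
   [(1, 0x104040404, 2, 0x1040404),
    (0x105, 0x10505, 2, 0x1050505),
    (0x104, 0x10505050505, 1, 0x104),
    (0x10505, 0x105, 1, 0x10404040404),
    (0x10404, 0x1050505, 2, 0x104),
    (0x1050505, 1, 2, 0x104040404),
    (0x1040404, 0x104, 2, 0x10505),
    (0x105050505, 0x1040404, 2, 1),
    (0x104040404, 0x1050505, 1, 0x10404),
    (0x10505050505, 0x10505, 1, 0x1040404),
    (0x10404040404, 0x104040404, 1, 0x105050505)], 1⟩,
  ⟨0x103, [],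
   [(1, 1, 0, 1),
    (0x105, 0x105, 2, 0x10505050505),
    (0x104, 0x10404040404, 1, 0x104),
    (0x10505, 0x105050505, 2, 0x1050505),
    (0x10404, 0x1040404, 1, 0x104040404),
    (0x1050505, 0x10404040404, 2, 0x10505),
    (0x1040404, 0x10404, 1, 0x10505050505),
    (0x105050505, 0x105050505, 1, 0x10404040404),
    (0x104040404, 0x10505050505, 2, 0x104040404),
    (0x10505050505, 0x10404, 2, 0x105),
    (0x10404040404, 0x104, 1, 0x10505)], 1⟩]

noncomputable def cl1_l : List Claim := dcClaims 1 3 cj1 reps1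

def cj0 : List ℕ := [0x105]

def reps0 : List Rep := [⟨1, [(0x102, 0x102), (0x104, 0x104)],
   [(1, 1, 1, 1)], 5⟩,
  ⟨0x100, [(0x104, 0x105)],
   [(1, 1, 0, 1),
    (0x103, 0x1030403, 1, 0x105050505030402),
    (0x102, 0x1020205, 1, 0x104020202)], 11⟩]

noncomputable def cl0_l : List Claim := dcClaims 0 2 cj0 reps0

theorem cl2_0 : chk A 5 (cl2_l) = true := by decide +kernel

theorem ok2 : plainOK A 2 3 8 tr2 ce2 = true := by decide +kernel

theorem orb2 : orbCardB A 2 2 8 11 11 = true := by decide +kernel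

theorem cl1_0 : chk A 5 (cl1_l) = true := by decide +kernel

theorem ok1 : dcOK A 1 3 0 8 11 cj1 reps1 = true := by decide +kernel

theorem orb1 : orbCardB A 2 1 0 5 23 = true := by decide +kernel

theorem cl0_0 : chk A 5 (cl0_l) = true := by decide +kernel

theorem ok0 : dcOK A 0 2 23 0 5 cj0 reps0 = true := by decide +kernel

theorem orb0 : orbCardB A 2 0 23 4 24 = true := by decide +kernel

theorem card3 : Nat.card (K A 3) = 1 := card_K_last A (le_of_eq hlen)

theorem cl2 : ∀ c ∈ cl2_l, Holds A c :=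
  (chk_spec hA cl2_0)

theorem stab2 : StabIs A 2 8 3 := stabIs_plain hA ok2 cl2

theorem card2 : Nat.card (K A 2) = 11 := card_K_step hA stab2 orb2 card3

theorem cl1 : ∀ c ∈ cl1_l, Holds A c :=
  (chk_spec hA cl1_0)

theorem stab1 : StabIs A 1 0 2 := stabIs_dc hA stab2 ok1 cl1

theorem card1 : Nat.card (K A 1) = 253 := card_K_step hA stab1 orb1 card2

theorem cl0 : ∀ c ∈ cl0_l, Holds A c :=
  (chk_spec hA cl0_0)

theorem stab0 : StabIs A 0 23 1 := stabIs_dc hA stab1 ok0 cl0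

theorem card0 : Nat.card (K A 0) = 6072 := card_K_step hA stab0 orb0 card1

theorem fixTriv0 {B : Set ℕ} (h0 : 23 ∈ B) (h1 : 0 ∈ B) (h2 : 8 ∈ B) : FixTriv (K A 0) B :=
  fixTriv_step stab0 h0 <| fixTriv_step stab1 h1 <| fixTriv_step stab2 h2 <| fixTriv_last A (le_of_eq hlen) B

theorem fixTriv1 {B : Set ℕ} (h1 : 0 ∈ B) (h2 : 8 ∈ B) : FixTriv (K A 1) B :=
  fixTriv_step stab1 h1 <| fixTriv_step stab2 h2 <| fixTriv_last A (le_of_eq hlen) B

theorem fixTriv2 {B : Set ℕ} (h2 : 8 ∈ B) : FixTriv (K A 2) B :=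
  fixTriv_step stab2 h2 <| fixTriv_last A (le_of_eq hlen) B


end Cfsg.Agent.Golay.L23
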